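import Cfsg.Agent.Lib.H17.J2Ord.Base

set_option autoImplicit false
set_option maxRecDepth 100000

/-! # Facts of the coset enumeration J2Ord ColB (generated) -/

namespace Cfsg.Agent.Lib.H17.J2Ord.ColB

open Cfsg.Spor Cfsg.Agent.Lib.H17.CosetCert Cfsg.Agent.Lib.H17.CoxGlue Cfsg.Agent.Lib.H17.J2PGlue Cfsg.Agent.Lib.H17.SubChain Cfsg.Agent.Lib.H17.J2Ord

/-- the packed facts -/
def factTree : BT := .node (.leaf 0x400300200100000540545590359494501584248148381513570137037271512560026161450340230120010) (.leaf 0x0)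

/-- the fact with a given number -/
noncomputable def F (f : ℕ) : ℕ × ℕ × ℕ :=
  factOf factTree 1 1024 12 4096 4 16 f

/-- the words of the enumeration -/
def words : WT := .node (.node (.node (.node (.node (.leaf [0, 1, 0, 1, 0, 1, 0, 1, 0, 1] true) (.leaf [1, 2, 1, 2] true)) (.node (.leaf [2, 4, 2, 4] true) (.leaf [2, 2] true))) (.node (.node (.leaf [1, 2, 1, 2, 1, 2] true) (.leaf [2, 4, 2, 4] true)) (.node (.leaf [0, 1, 0, 1] true) (.nil)))) (.node (.node (.node (.leaf [0, 3, 0, 3] true) (.leaf [1, 4, 1, 4] true)) (.node (.leaf [0, 3, 2, 3, 2, 3, 2, 3, 2] true) (.leaf [4, 4] true))) (.node (.node (.leaf [1, 4, 1, 4] true) (.leaf [0, 0] true)) (.node (.leaf [0, 3, 0, 3] true) (.nil))))) (.node (.node (.node (.node (.leaf [0, 2, 0, 2] true) (.leaf [1, 3, 1, 3] true)) (.node (.leaf [3, 4, 3, 4, 3, 4] true) (.leaf [3, 3] true))) (.node (.node (.leaf [1, 3, 1, 3] true)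 (.leaf [3, 4, 3, 4] true)) (.node (.leaf [0, 2, 0, 2] true) (.nil)))) (.node (.node (.node (.leaf [0, 4, 0, 4] true) (.leaf [2, 3, 2, 3] true)) (.node (.leaf [1, 2, 3, 2, 3, 1, 2, 3, 2, 3, 1, 2, 3, 2, 3, 1, 2, 3, 2, 3, 1, 2, 3, 2, 3, 4, 1, 2, 3, 2, 3, 1, 2, 3, 2, 3, 1, 2, 3, 2, 3, 1, 2, 3, 2, 3, 1, 2, 3, 2, 3, 4, 1, 2, 3, 2, 3, 1, 2, 3, 2, 3, 1, 2, 3, 2, 3, 1, 2, 3, 2, 3, 1, 2, 3, 2, 3, 4] true) (.leaf [] true))) (.node (.node (.leaf [2, 3, 2, 3, 2, 3, 2, 3, 2, 3, 2, 3, 2, 3, 2, 3] true) (.leaf [1, 1] true)) (.node (.leaf [0, 4, 0, 4] true) (.nil)))))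

/-- the additional relators -/
def extraW : List (List ℕ) := [[0, 1, 0, 1], [0, 2, 0, 2], [0, 3, 0, 3], [0, 4, 0, 4], [1, 2, 1, 2], [1, 3, 1, 3], [1, 4, 1, 4], [2, 3, 2, 3], [2, 4, 2, 4], [3, 4, 3, 4]]

theorem words_spec : ∀ v ∈ words.toList, v.2 = true ∧ (v.1.map ι ∈ relW ∨ v.1 ∈ extraW) := by
  decide

end Cfsg.Agent.Lib.H17.J2Ord.ColB
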