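import Cfsg.Agent.Lib.H17.J2Ord.ColBFacts

set_option autoImplicit false
set_option maxRecDepth 100000

/-! # Steps of the coset enumeration J2Ord ColB, part 0 (generated) -/

namespace Cfsg.Agent.Lib.H17.J2Ord.ColB

open Cfsg.Spor Cfsg.Agent.Lib.H17.CosetCert Cfsg.Agent.Lib.H17.CoxGlue Cfsg.Agent.Lib.H17.J2PGlue Cfsg.Agent.Lib.H17.SubChain Cfsg.Agent.Lib.H17.J2Ord

/-- steps 0 … -/
def steps0 : List ℕ := [0x0, 0x0, 0x0, 0x0, 0x0, 0x0, 0x100000500000000000100000200000000000d, 0x100000600000500000000000100000600000500000000000100000600000000000a000006000001, 0x6000007000000000000000003000001000017, 0x0, 0x2000009000000000001000002000000000002, 0x2000009000008000001000001000003000000000011, 0x200000b00000900000800000100000200000b000000000007000007000005, 0xa00000c000000000000000003000001000017, 0x0, 0x300000e000008000001000001000003000000000006, 0x300000e00000d000002000001000003000000000014, 0xd00000200000300001000000e00000d00000200000300001000000300000000000900000200000100000b, 0xe00001100000300000000000300000000001a, 0x0, 0x4000013000003000001000002000000000016, 0x400001400001300000300000400001400000000000600000900000a, 0x1400001500000300000000000300000400001a, 0x400001600000300001200000d00000200000300001000001100000f00001100000300001200000d00000200000300001000001100000f00001100000300001200000d00000200000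300001000001100000f00001100000300001200000d00000200000300001000001100000f00001100000300001200000d00000200000300001000001100000f00001100001600000400000300001000001100000300001200000d00000200001200000800000100000300001000001100000300001200000d00000200001200000800000100000300001000001100000300001200000d00000200001200000800000100000300001000001100000300001200000d00000200001200000800000100000300001000001100000300001200000d00000200001200000800000100000400001600000300001000001100000300001200000d00000200001200000800000100000300001000001100000300001200000d00000200001200000800000100000300001000001100000300001200000d00000200001200000800000100000300001000001100000300001200000d00000200001200000800000100000300001000001100000300001200000d00000200001200000800000100006500003200000000000c, 0x12000000000000000002000000000017, 0x12000008000001000000000003000000000018, 0x1200000d000002000000000003000000000019, 0x1700000300000000000200000000001a, 0x1700001600000400000000000300000000001b]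

theorem chk0 : checkSteps F 5 16777216 words steps0 0 1 = some 10 := by
  decide +kernel

theorem len0 : steps0.length = 29 := by
  decide +kernel

end Cfsg.Agent.Lib.H17.J2Ord.ColB
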