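import Cfsg.Agent.Lib.H17.J2Ord.Simple
import Cfsg.Agent.Lib.H17.J2P100.Lower
import Cfsg.Prelude.Def_Sporadic

set_option autoImplicit false
set_option maxRecDepth 100000

/-! # The Hall–Janko group as a group of permutations of 100 points -/

namespace Cfsg.Agent.Lib.H17.J2Deg100

open Cfsg.Spor Cfsg.Agent.Lib.H17.CosetCert Cfsg.Agent.Lib.H17.CoxGlue
  Cfsg.Agent.Lib.H17.J2PGlue Cfsg.Agent.Lib.H17.J2P100

theorem φ_ne : φ (PresentedGroup.of .a) ≠ 1 := by
  rw [φ_of]
  intro h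
  have h2 : ((σ' .a ⟨0, by decide⟩ : Fin 100) : ℕ) = lk 7 128 (tabOf .a) 0 :=
    σ_apply 7 128 100 (tabOf .a) (good_tabs _ (tabOf_mem .a)) ⟨0, by decide⟩
  rw [h] at h2
  revert h2
  decide +kernel

theorem φ_inj : Function.Injective φ := by
  have hs : IsSimpleGroup G := Cfsg.Agent.Lib.H17.J2PSimple.simple
  rcases hs.eq_bot_or_eq_top_of_normal φ.ker inferInstance with h | h
  · exact (MonoidHom.ker_eq_bot_iff φ).mp h
  · exfalso
    have hm : (PresentedGroup.of .a : G) ∈ φ.ker := by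
      rw [h]
      exact Subgroup.mem_top _
    exact φ_ne (MonoidHom.mem_ker.mp hm)

/-- **A simple group of order 604800 inside the symmetric group of degree 100.** -/
theorem main : ∃ K : Subgroup (Equiv.Perm (Fin 100)), Cfsg.IsJ2 K := by
  have hs : IsSimpleGroup G := Cfsg.Agent.Lib.H17.J2PSimple.simple
  refine ⟨φ.range, (MonoidHom.ofInjective φ_inj).symm.isSimpleGroup, ?_⟩
  rw [← Nat.card_congr (MonoidHom.ofInjective φ_inj).toEquiv]
  exact Cfsg.Agent.Lib.H17.J2Ord.card_eq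

end Cfsg.Agent.Lib.H17.J2Deg100
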